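import Cfsg.Agent.H832.PoSeven.Core
import Cfsg.Agent.H198.Carriers
import Cfsg.Agent.H823.O8S.Base

/-!
# S3938-OPLUS8, (O7): `PΩ₇(q)` (helper832)

`po7_conj` : in an almost simple group with socle `PΩ₇(q)`, `q` odd, an element `t` of order `(q + 1) / 2` which commutes with an
element of order `r ^ k`, `r` a primitive prime divisor of `p ^ (6 a) - 1`, is the product of three conjugates of `t`, which
commute with `t` and are not powers of `t`.
-/

set_option autoImplicit false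

namespace Cfsg.Agent.H832.PoSeven

open Cfsg Cfsg.Agent.H823.O8S Module

variable {K : Type} [Field K] [Fintype K] {p a r k : ℕ} {R : Type} [Group R] [Finite R] (S : Subgroup R) [S.Normal]
  (hC : Subgroup.centralizer (S : Set R) = ⊥) {x t : R} (hx : orderOf x = r ^ k) (ht : orderOf t = mt (p ^ a))
  (hxt : x * t = t * x)

include hC hx ht hxt in
/-- **(O7) `PΩ₇(q)`, `q` odd: three conjugates of `t`** (weak hypothesis, including `q = 5`) -/
theorem po7_conj_w (hp : p ≠ 2) (hK : Fintype.card K = p ^ a) (h : RW p a r k)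
    (e : S ≃* POmega K (quadFormOdd 3 K)) :
    ∃ t₁ t₂ t₃ : R, IsConj t t₁ ∧ IsConj t t₂ ∧ IsConj t t₃ ∧ t * t₁ = t₁ * t ∧ t * t₂ = t₂ * t ∧ t * t₃ = t₃ * t ∧
      t₁ ∉ Subgroup.zpowers t ∧ t₂ ∉ Subgroup.zpowers t ∧ t₃ ∉ Subgroup.zpowers t ∧ t₁ * t₂ * t₃ = t := by
  have hcard : Nat.card K = p ^ a := by rw [Nat.card_eq_fintype_card, hK]
  have hr := h.prim.prime
  have h2 : (2 : K) ≠ 0 := by
    intro h0
    obtain ⟨q, hq⟩ := CharP.exists K
    have hqp : q.Prime := (CharP.char_is_prime_or_zero K q).resolve_right (CharP.char_ne_zero_of_finite K q)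
    have : Fact q.Prime := ⟨hqp⟩
    obtain ⟨n, -, hn⟩ := FiniteField.card K q
    have h1 : q ∣ 2 := (CharP.cast_eq_zero_iff K q 2).1 (by exact_mod_cast h0)
    have h3 : q = 2 := (Nat.prime_dvd_prime_iff_eq hqp Nat.prime_two).1 h1
    rw [hK, h3] at hn
    have h4 : p ∣ 2 ^ (n : ℕ) := by
      rw [← hn]
      exact dvd_pow_self p (by have := h.ha; omega)
    exact hp ((Nat.prime_dvd_prime_iff_eq h.hp Nat.prime_two).1 (h.hp.dvd_of_dvd_pow h4))
  have hG := H198.Carriers.good_oddQ (F := K) (m := 3) (by norm_num) h2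
  let e' : S ≃* ClassicalGeometry.OrthAut1.P (H198.Carriers.oddQ 3 K) := e.trans (AutOrth.Main.pe hG)
  -- the element of order `r`
  have hk : 1 ≤ k := h.hk
  have hpow : r ^ (k - 1) * r = r ^ k := by rw [← pow_succ, Nat.sub_add_cancel hk]
  have hy : (x ^ r ^ (k - 1)) ^ r = 1 := by rw [← pow_mul, hpow, ← hx, pow_orderOf_eq_one]
  have hy1 : x ^ r ^ (k - 1) ≠ 1 := by
    intro h1
    have h3 := Nat.le_of_dvd (pow_pos hr.pos _) (orderOf_dvd_of_pow_eq_one h1)
    rw [hx] at h3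
    exact absurd h3 (not_le.2 (Nat.pow_lt_pow_right hr.one_lt (by omega)))
  have hyt : x ^ r ^ (k - 1) * t = t * x ^ r ^ (k - 1) :=
    ((show Commute x t from hxt).pow_left (r ^ (k - 1))).eq
  -- the order of `t`
  have hodd : p ^ a % 2 = 1 := by
    rcases Nat.Prime.eq_two_or_odd h.hp with h1 | h1
    · exact absurd h1 hp
    · rw [Nat.pow_mod, h1, one_pow, Nat.one_mod]
  have hfour := h.four
  have hmt : Cfsg.Agent.H823.O8S.mt (p ^ a) = (p ^ a + 1) / 2 := by
    rw [Cfsg.Agent.H823.O8S.mt]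
    congr 1
    exact Nat.gcd_eq_left (by omega)
  have htp : t ^ (Nat.card K + 1) = 1 := by
    apply orderOf_dvd_iff_pow_eq_one.1
    rw [ht, hmt, hcard]
    exact ⟨2, by omega⟩
  have ht2 : t * t ≠ 1 := by
    intro h1
    have h3 : orderOf t ∣ 2 := orderOf_dvd_of_pow_eq_one (by rw [pow_two, h1])
    have h4 := Nat.le_of_dvd (by norm_num) h3
    rw [ht, hmt] at h4
    omega
  exact core hG (by rw [Module.finrank_fintype_fun_eq_card]; rfl) h2 h.hp h.ha h.prim hcard S hC e' hy hy1 hyt htp ht2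

include hC hx ht hxt in
/-- **(O7) `PΩ₇(q)`, `q` odd: three conjugates of `t`** -/
theorem po7_conj (hp : p ≠ 2) (hK : Fintype.card K = p ^ a) (h : RK p a r k)
    (e : S ≃* POmega K (quadFormOdd 3 K)) :
    ∃ t₁ t₂ t₃ : R, IsConj t t₁ ∧ IsConj t t₂ ∧ IsConj t t₃ ∧ t * t₁ = t₁ * t ∧ t * t₂ = t₂ * t ∧ t * t₃ = t₃ * t ∧
      t₁ ∉ Subgroup.zpowers t ∧ t₂ ∉ Subgroup.zpowers t ∧ t₃ ∉ Subgroup.zpowers t ∧ t₁ * t₂ * t₃ = t :=
  po7_conj_w S hC hx ht hxt hp hK h.weak e

end Cfsg.Agent.H832.PoSeven
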