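import Cfsg.Agent.H832.PoSeven.Planes

/-!
# `T` is the product of three conjugates of `T` (helper832)
-/

set_option autoImplicit false
set_option linter.unusedSectionVars false

namespace Cfsg.Agent.H832.PoSeven

open Module QuadraticMap Cfsg.Agent.LieClassical.OrthCore Cfsg.Agent.LieClassical.OrthTrans
open Cfsg.Agent.H436 (Prim)

variable {F V : Type*} [Field F] [Finite F] [AddCommGroup V] [Module F V] [Finite V] {Q : QuadraticForm F V}
  {p a r : ℕ} {Y T : V ≃ₗ[F] V} {l : V} {lam : F}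

namespace Tor

/-- the plane of `v` -/
def Pl (T : V ≃ₗ[F] V) (v : V) : Submodule F V := Submodule.span F {v, T v}

theorem mem_Pl {v w : V} : w ∈ Pl T v ↔ ∃ x y : F, x • v + y • T v = w := Submodule.mem_span_pair

theorem inv_T (T : V ≃ₗ[F] V) (v : V) : T⁻¹ (T v) = v := LinearEquiv.symm_apply_apply T v

theorem T_inv (T : V ≃ₗ[F] V) (v : V) : T (T⁻¹ v) = v := LinearEquiv.apply_symm_apply T v

theorem Pl_st {D : Dat Q p a r Y l} (hl : ∀ v ∈ D.H, T (T v) = lam • T v - v) {v : V} (hv : v ∈ D.H) {w : V}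
    (hw : w ∈ Pl T v) : T w ∈ Pl T v ∧ T⁻¹ w ∈ Pl T v := by
  obtain ⟨x, y, rfl⟩ := mem_Pl.1 hw
  have h1 := hl v hv
  constructor
  · refine mem_Pl.2 ⟨-y, x + y * lam, ?_⟩
    rw [map_add, map_smul, map_smul, h1]
    module
  · refine mem_Pl.2 ⟨x * lam + y, -x, ?_⟩
    apply T.injective
    rw [T_inv, map_add, map_smul, map_smul, h1]
    module

/-- linear maps are determined by their values on `l` and on the three planes -/
theorem Three.ext {t : Tor Q Y T l} {D : Dat Q p a r Y l} {v : Fin 3 → V} (h : t.Three D v) {f g : V ≃ₗ[F] V}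
    (hl : f l = g l) (hP : ∀ i, ∀ w ∈ Pl T (v i), f w = g w) : f = g := by
  ext w
  obtain ⟨c, x, y, rfl⟩ := h.gen w
  rw [map_add, map_add, map_smul, map_smul, hl, map_sum, map_sum]
  congr 1
  apply Finset.sum_congr rfl
  intro i _
  exact hP i _ (mem_Pl.2 ⟨x i, y i, rfl⟩)

/-- **The conjugates.** -/
theorem exists_conj (hG : Good Q) (t : Tor Q Y T l) (D : Dat Q p a r Y l) (hl : ∀ v ∈ D.H, T (T v) = lam • T v - v)
    {v : Fin 3 → V} (h : t.Three D v) (i : Fin 3) : ∃ s ∈ E Q, ∃ G : V ≃ₗ[F] V, G = s * T * s⁻¹ ∧ G l = l ∧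
      (∀ w ∈ Pl T (v i), G w = T⁻¹ w) ∧ ∀ j, j ≠ i → ∀ w ∈ Pl T (v j), G w = T w := by
  have hqi : Q (v i) ≠ 0 := by rw [h.val]; exact D.ql
  have hli : polar Q l (v i) = 0 := D.mem_H.1 (h.mem i)
  have hlTi : polar Q l (T (v i)) = 0 := D.mem_H.1 (t.mem_H D (h.mem i))
  have hil : polar Q (v i) l = 0 := by rw [polar_comm]; exact hli
  let s : V ≃ₗ[F] V := refl Q (v i) hqi * refl Q l D.ql
  have hs : s ∈ E Q := hG.refl_mul_refl_mem D.ql hqi (h.val i).symm
  have hsw : ∀ w, s w = refl Q (v i) hqi (refl Q l D.ql w) := fun w => rfl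
  have hself : ∀ (u : V) (hu : Q u ≠ 0), refl Q u hu u = -u := by
    intro u hu
    rw [refl_apply, polar_self, nsmul_eq_mul]
    have e : (Q u)⁻¹ * (((2 : ℕ) : F) * Q u) = 2 := by field_simp; norm_num
    rw [e]
    module
  have hperp : ∀ (u : V) (hu : Q u ≠ 0) (w : V), polar Q u w = 0 → refl Q u hu w = w := by
    intro u hu w hw
    rw [refl_apply, hw, mul_zero, zero_smul, sub_zero]
  have s_l : s l = -l := by rw [hsw, hself, map_neg, hperp _ _ _ hil]
  have s_i : s (v i) = -(v i) := by rw [hsw, hperp _ _ _ hli, hself]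
  have s_Ti : s (T (v i)) = T (v i) - lam • v i := by
    rw [hsw, hperp _ _ _ hlTi, refl_apply, t.polar_v_Tv D hl (h.mem i)]
    have e : (Q (v i))⁻¹ * (lam * Q (v i)) = lam := by field_simp
    rw [e]
  have s_j : ∀ j, j ≠ i → ∀ w ∈ Pl T (v j), s w = w := by
    intro j hj w hw
    have hwH : polar Q l w = 0 := by
      obtain ⟨x, y, rfl⟩ := mem_Pl.1 hw
      exact D.mem_H.1 (D.H.add_mem (D.H.smul_mem x (h.mem j)) (D.H.smul_mem y (t.mem_H D (h.mem j))))
    have hwi : polar Q (v i) w = 0 := by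
      obtain ⟨x, y, rfl⟩ := mem_Pl.1 hw
      rw [polar_add_right, polar_smul_right, polar_smul_right, (h.orth i j hj.symm).1, (h.orth i j hj.symm).2,
        smul_zero, smul_zero, add_zero]
    rw [hsw, hperp _ _ _ hwH, hperp _ _ _ hwi]
  refine ⟨s, hs, s * T * s⁻¹, rfl, ?_, ?_, ?_⟩
  all_goals
    have key : ∀ w, (s * T * s⁻¹) (s w) = s (T w) := by
      intro w
      show s (T (s⁻¹ (s w))) = _
      rw [inv_T]
  · have h1 := key l
    rw [s_l, t.fl, s_l, map_neg] at h1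
    exact neg_injective h1
  · have h1 := key (v i)
    rw [s_i, s_Ti, map_neg] at h1
    have h2 : (s * T * s⁻¹) (v i) = lam • v i - T (v i) := by
      rw [← neg_eq_iff_eq_neg.2 (h1.trans (neg_sub _ _).symm)]
      rw [neg_neg]
    have h3 := key (T (v i))
    rw [s_Ti, hl _ (h.mem i), map_sub, map_smul, h2, map_sub, map_smul, s_Ti, s_i] at h3
    have h4 : (s * T * s⁻¹) (T (v i)) = v i := by
      have h5 := sub_eq_iff_eq_add.1 h3
      rw [h5]
      module
    intro w hw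
    obtain ⟨x, y, rfl⟩ := mem_Pl.1 hw
    apply T.injective
    rw [T_inv, map_add, map_smul, map_smul, h2, h4, map_add, map_smul, map_smul, map_sub, map_smul, hl _ (h.mem i)]
    module
  · intro j hj w hw
    have h1 := key w
    rw [s_j j hj w hw, s_j j hj _ (Pl_st hl (h.mem j) hw).1] at h1
    exact h1

/-- **`T` is a product of three conjugates of `T` under `E Q`.** -/
theorem main (hG : Good Q) (t : Tor Q Y T l) (D : Dat Q p a r Y l) :
    ∃ s : Fin 3 → (V ≃ₗ[F] V), (∀ i, s i ∈ E Q) ∧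
      (s 0 * T * (s 0)⁻¹) * (s 1 * T * (s 1)⁻¹) * (s 2 * T * (s 2)⁻¹) = T ∧
      (∀ i, T * (s i * T * (s i)⁻¹) = (s i * T * (s i)⁻¹) * T) ∧
      ∀ i, (s i * T * (s i)⁻¹) l = l ∧ ∀ k : ℤ, s i * T * (s i)⁻¹ ≠ T ^ k := by
  obtain ⟨lam, hl⟩ := t.exists_lam D
  obtain ⟨v, h⟩ := t.exists_three D hl
  choose s hs G hGs hGl hGi hGj using exists_conj hG t D hl h
  have hst : ∀ (j : Fin 3), ∀ w ∈ Pl T (v j), T w ∈ Pl T (v j) ∧ T⁻¹ w ∈ Pl T (v j) := fun j w hw =>
    Pl_st hl (h.mem j) hw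
  refine ⟨s, hs, ?_, ?_, ?_⟩
  · rw [← hGs, ← hGs, ← hGs]
    apply h.ext
    · show G 0 (G 1 (G 2 l)) = T l
      rw [hGl, hGl, hGl, t.fl]
    · intro j w hw
      show G 0 (G 1 (G 2 w)) = T w
      fin_cases j
      · rw [hGj 2 0 (by decide) w hw, hGj 1 0 (by decide) _ (hst 0 w hw).1,
          hGi 0 _ (hst 0 _ (hst 0 w hw).1).1, inv_T]
      · rw [hGj 2 1 (by decide) w hw, hGi 1 _ (hst 1 w hw).1, inv_T, hGj 0 1 (by decide) w hw]
      · rw [hGi 2 w hw, hGj 1 2 (by decide) _ (hst 2 w hw).2, T_inv, hGj 0 2 (by decide) w hw]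
  · intro i
    rw [← hGs]
    apply h.ext
    · show T (G i l) = G i (T l)
      rw [hGl, t.fl, hGl]
    · intro j w hw
      show T (G i w) = G i (T w)
      by_cases hj : j = i
      · subst hj
        rw [hGi j w hw, T_inv, hGi j _ (hst j w hw).1, inv_T]
      · rw [hGj i j hj w hw, hGj i j hj _ (hst j w hw).1]
  · intro i
    rw [← hGs]
    refine ⟨hGl i, fun k hk => ?_⟩
    obtain ⟨j, hj⟩ : ∃ j : Fin 3, j ≠ i := ⟨i + 1, by fin_cases i <;> decide⟩
    have hTk : ∀ w, (T ^ k) (Y w) = Y ((T ^ k) w) := by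
      have hc : Commute T Y := by
        show T * Y = Y * T
        ext w
        exact t.comm w
      intro w
      have := (hc.zpow_left k).eq
      exact LinearEquiv.congr_fun this w
    have hv : ∀ w : V, w ∈ Pl T w := fun w => Submodule.subset_span (Or.inl rfl)
    have h0 : ∀ i, v i ≠ 0 := by
      intro i h1
      have h2 := h.val i
      rw [h1, QuadraticMap.map_zero] at h2
      exact D.ql h2.symm
    have e1 : (T ^ k) (v j) = T (v j) := by rw [← hk, hGj i j hj _ (hv _)]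
    have e2 : (T ^ k) (v i) = T⁻¹ (v i) := by rw [← hk, hGi i _ (hv _)]
    have e3 : (T ^ k) (v i) = T (v i) := D.eq_of_eq ((T ^ k : V ≃ₗ[F] V) : V →ₗ[F] V).toAddMonoidHom
      (T : V →ₗ[F] V).toAddMonoidHom hTk t.comm (h.mem j) (h0 j) e1 (h.mem i)
    apply t.sq_ne D (h.mem i) (h0 i)
    rw [← e3, e2, T_inv]

end Tor

end Cfsg.Agent.H832.PoSeven
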