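import Cfsg.Agent.H832.PoSeven.Conj

/-!
# The group-theoretic form (helper832)

`core` : `R` a group with a normal subgroup `S ≅ PΩ₇(q)`, `C_R(S) = 1`, `y` of order `r` (a primitive prime divisor of
`p ^ (6 a) - 1`, `q = p ^ a` odd) and `t` commuting with `y`, `t ^ (q + 1) = 1`, `t² ≠ 1`: then `t` is the product of three
conjugates of `t` which commute with `t` and are not powers of `t`.
-/

set_option autoImplicit false
set_option linter.unusedSectionVars false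

namespace Cfsg.Agent.H832.PoSeven

open Module QuadraticMap Cfsg.Agent.LieClassical.OrthCore Cfsg.Agent.LieClassical.OrthTrans
  Cfsg.Agent.ClassicalGeometry.OrthSemi Cfsg.Agent.ClassicalGeometry.OrthAut1
open Cfsg.Agent.H436 (Prim)

section

variable {F V : Type*} [Field F] [AddCommGroup V] [Module F V] {Q : QuadraticForm F V}

/-- isometries as semisimilitudes -/
def ofO (Q : QuadraticForm F V) : O Q →* Gam Q where
  toFun g := ⟨(g : V ≃ₗ[F] V).toEquiv, RingEquiv.refl F, 1, one_ne_zero, fun u v => map_add (g : V ≃ₗ[F] V) u v,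
    fun c v => map_smul (g : V ≃ₗ[F] V) c v, fun v => by rw [one_mul]; exact g.2 v⟩
  map_one' := rfl
  map_mul' g h := rfl

theorem ofO_apply (g : O Q) (v : V) : (ofO Q g).1 v = (g : V ≃ₗ[F] V) v := rfl

theorem Psi_ofO {g : V ≃ₗ[F] V} (hg : g ∈ E Q) :
    Psi Q (ofO Q ⟨g, E_le_O hg⟩) = MulAut.conj (QuotientGroup.mk (⟨g, hg⟩ : ↥(E Q)) : P Q) := by
  ext x
  obtain ⟨h, rfl⟩ := QuotientGroup.mk_surjective x
  rw [Psi_mk, MulAut.conj_apply, ← QuotientGroup.mk_inv, ← QuotientGroup.mk_mul, ← QuotientGroup.mk_mul]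
  congr 1

/-- a linear equivalence from a permutation -/
def mkLin (M : Equiv.Perm V) (hadd : ∀ u v, M (u + v) = M u + M v) (hsm : ∀ (c : F) (v : V), M (c • v) = c • M v)
    (d : F) (hd : d ≠ 0) : V ≃ₗ[F] V where
  toFun v := d • M v
  invFun v := M.symm (d⁻¹ • v)
  map_add' u v := by rw [hadd, smul_add]
  map_smul' c v := by rw [hsm, smul_comm]; rfl
  left_inv v := by
    show M.symm (d⁻¹ • d • M v) = v
    rw [smul_smul, inv_mul_cancel₀ hd, one_smul, Equiv.symm_apply_apply]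
  right_inv v := by
    show d • M (M.symm (d⁻¹ • v)) = v
    rw [Equiv.apply_symm_apply, smul_smul, mul_inv_cancel₀ hd, one_smul]

theorem mkLin_apply {M : Equiv.Perm V} {hadd : ∀ u v, M (u + v) = M u + M v}
    {hsm : ∀ (c : F) (v : V), M (c • v) = c • M v} {d : F} {hd : d ≠ 0} (v : V) :
    mkLin M hadd hsm d hd v = d • M v := rfl

/-- equality modulo scalars -/
theorem Psi_eq_iff (hG : Good Q) (M N : Gam Q) : Psi Q M = Psi Q N ↔ ∃ b : Fˣ, ∀ v, M.1 v = (b : F) • N.1 v := by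
  constructor
  · intro h
    have h1 : M * N⁻¹ ∈ (Psi Q).ker := by rw [MonoidHom.mem_ker, map_mul, map_inv, h, mul_inv_cancel]
    rw [ker_Psi hG] at h1
    obtain ⟨b, hb⟩ := h1
    refine ⟨b, fun v => ?_⟩
    have h2 : M = scal Q b * N := by rw [hb, inv_mul_cancel_right]
    rw [h2]
    rfl
  · rintro ⟨b, hb⟩
    have h2 : M = scal Q b * N := by
      apply Subtype.ext
      ext v
      exact hb v
    have h3 : scal Q b ∈ (Psi Q).ker := by rw [ker_Psi hG]; exact ⟨b, rfl⟩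
    rw [h2, map_mul, MonoidHom.mem_ker.1 h3, one_mul]

end

variable {F V : Type*} [Field F] [Finite F] [AddCommGroup V] [Module F V] [Finite V] {Q : QuadraticForm F V}
  {p a r : ℕ}

/-- the first element -/
theorem exists_Y (hG : Good Q) (hd : finrank F V = 7) (h2 : (2 : F) ≠ 0) (hp : p.Prime) (ha : 1 ≤ a)
    (hr : Prim p (6 * a) r) (hF : Nat.card F = p ^ a) {β : MulAut (P Q)} (hs : Function.Surjective (Psi Q))
    (hβ : β ^ r = 1) (hβ1 : β ≠ 1) : ∃ (Y : O Q) (l : V), Psi Q (ofO Q Y) = β ∧ Dat Q p a r Y l := by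
  obtain ⟨M, hM⟩ := hs β
  obtain ⟨σ, c, h⟩ := M.2
  have hker : Psi Q (M ^ r) = Psi Q 1 := by rw [map_pow, hM, hβ, map_one]
  obtain ⟨b, hb⟩ := (Psi_eq_iff hG _ _).1 hker
  have hb' : ∀ v, (M.1 ^ r) v = (b : F) • v := hb
  obtain ⟨x₀, y₀, hxy⟩ := hG.exists_hyp
  have hx₀ : x₀ ≠ 0 := hxy.left_ne
  have hσn : ∀ (n : ℕ) (s : F) (v : V), (M.1 ^ n) (s • v) = σ^[n] s • (M.1 ^ n) v := by
    intro n
    induction n with
    | zero => intro s v; rfl
    | succ n ih =>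
      intro s v
      rw [pow_succ', Function.iterate_succ_apply']
      show M.1 ((M.1 ^ n) (s • v)) = _
      rw [ih, h.smul]
      rfl
  have hσr : ∀ s, σ^[r] s = s := by
    intro s
    have h1 := hσn r s x₀
    rw [hb', hb'] at h1
    have h3 : (σ^[r] s - s) • ((b : F) • x₀) = 0 := by
      rw [sub_smul, ← h1, smul_smul, smul_smul, mul_comm, sub_self]
    exact sub_eq_zero.1 ((smul_eq_zero.1 h3).resolve_right (smul_ne_zero b.ne_zero hx₀))
  have hσ := ringEquiv_eq_refl hp ha hr hF σ hσr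
  have hsm : ∀ (s : F) (v : V), M.1 (s • v) = s • M.1 v := fun s v => by rw [h.smul, hσ]
  have hform : ∀ v, Q (M.1 v) = c * Q v := fun v => by rw [h.form, hσ]
  have hQn : ∀ (n : ℕ) v, Q ((M.1 ^ n) v) = c ^ n * Q v := by
    intro n
    induction n with
    | zero => intro v; rw [pow_zero, pow_zero, one_mul]; rfl
    | succ n ih =>
      intro v
      rw [pow_succ']
      show Q (M.1 ((M.1 ^ n) v)) = _
      rw [hform, ih, pow_succ]
      ring
  obtain ⟨w, hw⟩ : ∃ w, Q w ≠ 0 := by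
    refine ⟨x₀ + y₀, ?_⟩
    rw [Q_add, hxy.left, hxy.right, hxy.pair]
    norm_num
  have hbc : (b : F) * b = c ^ r := by
    have h1 := hQn r w
    rw [hb', QuadraticMap.map_smul, smul_eq_mul] at h1
    exact mul_right_cancel₀ hw h1
  have hrodd : r % 2 = 1 := hr.odd (by omega)
  obtain ⟨k, hk⟩ : ∃ k, r = 2 * k + 1 := ⟨r / 2, by omega⟩
  have hc0 : c ≠ 0 := h.ne
  obtain ⟨d, hdd⟩ : ∃ d : F, d = b / c ^ k := ⟨_, rfl⟩
  have hd0 : d ≠ 0 := by
    rw [hdd]
    exact div_ne_zero b.ne_zero (pow_ne_zero _ hc0)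
  have hdc : d * d = c := by
    rw [hdd, div_mul_div_comm, hbc, hk]
    rw [div_eq_iff (mul_ne_zero (pow_ne_zero _ hc0) (pow_ne_zero _ hc0))]
    ring
  have hdr : d ^ r = b := by
    rw [hk, pow_succ, pow_mul, pow_two, hdc, hdd, mul_div_cancel₀ _ (pow_ne_zero _ hc0)]
  let Y : V ≃ₗ[F] V := mkLin M.1 h.add hsm d⁻¹ (inv_ne_zero hd0)
  have hY : ∀ v, Y v = d⁻¹ • M.1 v := fun v => rfl
  have hYO : Y ∈ O Q := by
    intro v
    rw [hY, QuadraticMap.map_smul, hform, smul_eq_mul, ← hdc]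
    field_simp
  have hPsi : Psi Q (ofO Q ⟨Y, hYO⟩) = β := by
    rw [← hM, Psi_eq_iff hG]
    exact ⟨Units.mk0 d⁻¹ (inv_ne_zero hd0), fun v => rfl⟩
  have hYn : ∀ (n : ℕ) v, (Y ^ n) v = (d⁻¹) ^ n • (M.1 ^ n) v := by
    intro n
    induction n with
    | zero => intro v; rw [pow_zero, pow_zero, one_smul]; rfl
    | succ n ih =>
      intro v
      rw [pow_succ', pow_succ' M.1]
      show Y ((Y ^ n) v) = _ • M.1 ((M.1 ^ n) v)
      rw [ih, hY, hsm, smul_smul, pow_succ']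
  have hYr : Y ^ r = 1 := by
    ext v
    rw [hYn, hb', smul_smul, inv_pow, hdr, inv_mul_cancel₀ b.ne_zero, one_smul]
    rfl
  have hY1 : Y ≠ 1 := by
    intro h1
    apply hβ1
    rw [← hPsi]
    have h3 : (⟨Y, hYO⟩ : O Q) = 1 := Subtype.ext h1
    rw [h3, map_one, map_one]
  obtain ⟨l, D⟩ := exists_dat hp ha hr hF h2 hG.nondeg hd hYO hYr hY1
  exact ⟨⟨Y, hYO⟩, l, hPsi, D⟩

/-- the second element -/
theorem exists_T (hG : Good Q) {Y : O Q} {l : V} (D : Dat Q p a r Y l) {α : MulAut (P Q)}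
    (hs : Function.Surjective (Psi Q)) (hc : α * Psi Q (ofO Q Y) = Psi Q (ofO Q Y) * α)
    (hpow : α ^ (Nat.card F + 1) = 1) (hsq : α * α ≠ 1) :
    ∃ T : O Q, Psi Q (ofO Q T) = α ∧ Tor Q (Y : V ≃ₗ[F] V) T l := by
  obtain ⟨M, hM⟩ := hs α
  obtain ⟨τ, c, h⟩ := M.2
  have h1 : Psi Q (M * ofO Q Y) = Psi Q (ofO Q Y * M) := by rw [map_mul, map_mul, hM, hc]
  obtain ⟨b, hb⟩ := (Psi_eq_iff hG _ _).1 h1
  have hb' : ∀ v, M.1 ((Y : V ≃ₗ[F] V) v) = (b : F) • (Y : V ≃ₗ[F] V) (M.1 v) := hb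
  have hbb : (b : F) * b = 1 := by
    have h2 := congrArg Q (hb' l)
    rw [D.fl, QuadraticMap.map_smul, D.iso, h.form, smul_eq_mul] at h2
    have h3 : c * τ (Q l) ≠ 0 := mul_ne_zero h.ne (by
      rw [Ne, EmbeddingLike.map_eq_zero_iff]
      exact D.ql)
    have h4 : ((b : F) * b - 1) * (c * τ (Q l)) = 0 := by linear_combination -h2
    exact sub_eq_zero.1 ((mul_eq_zero.1 h4).resolve_right h3)
  have hl0 : l ≠ 0 := by
    rintro rfl
    exact D.ql (QuadraticMap.map_zero Q)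
  have hbn : ∀ (n : ℕ) v, M.1 (((Y : V ≃ₗ[F] V) ^ n) v) = (b : F) ^ n • ((Y : V ≃ₗ[F] V) ^ n) (M.1 v) := by
    intro n
    induction n with
    | zero => intro v; rw [pow_zero, pow_zero, one_smul]; rfl
    | succ n ih =>
      intro v
      rw [pow_succ']
      show M.1 ((Y : V ≃ₗ[F] V) (((Y : V ≃ₗ[F] V) ^ n) v)) = _ • (Y : V ≃ₗ[F] V) (((Y : V ≃ₗ[F] V) ^ n) (M.1 v))
      rw [hb', ih, map_smul, smul_smul, pow_succ']
  have hM0 : M.1 l ≠ 0 := fun h2 => hl0 (M.1.injective (by rw [h2, h.map_zero]))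
  have hbr : (b : F) ^ r = 1 := by
    have h2 := hbn r l
    rw [D.pow] at h2
    have h3 : M.1 l = (b : F) ^ r • M.1 l := h2
    have h4 : ((b : F) ^ r - 1) • M.1 l = 0 := by rw [sub_smul, one_smul, ← h3, sub_self]
    exact sub_eq_zero.1 ((smul_eq_zero.1 h4).resolve_right hM0)
  have hb1 : (b : F) = 1 := by
    have hrodd : r % 2 = 1 := D.prim.odd (by have := D.ha; omega)
    obtain ⟨k, hk⟩ : ∃ k, r = 2 * k + 1 := ⟨r / 2, by omega⟩
    rw [hk, pow_succ, pow_mul, pow_two, hbb, one_pow, one_mul] at hbr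
    exact hbr
  have hcomm : ∀ v, M.1 ((Y : V ≃ₗ[F] V) v) = (Y : V ≃ₗ[F] V) (M.1 v) := fun v => by rw [hb', hb1, one_smul]
  obtain ⟨ε, hε⟩ := D.fix (M.1 l) (by rw [← hcomm, D.fl])
  have hε0 : ε ≠ 0 := by
    rintro rfl
    rw [zero_smul] at hε
    exact hM0 hε
  -- the normalized permutation
  let M' : Gam Q := scal Q (Units.mk0 ε⁻¹ (inv_ne_zero hε0)) * M
  have hM' : ∀ v, M'.1 v = ε⁻¹ • M.1 v := fun v => rfl
  have hM'l : M'.1 l = l := by rw [hM', hε, smul_smul, inv_mul_cancel₀ hε0, one_smul]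
  have hPsi' : Psi Q M' = α := by
    rw [← hM, Psi_eq_iff hG]
    exact ⟨Units.mk0 ε⁻¹ (inv_ne_zero hε0), fun v => rfl⟩
  have hadd : ∀ u v, M'.1 (u + v) = M'.1 u + M'.1 v := fun u v => by rw [hM', hM', hM', h.add, smul_add]
  have hsmτ : ∀ (s : F) (v : V), M'.1 (s • v) = τ s • M'.1 v := fun s v => by
    rw [hM', hM', h.smul, smul_comm]
  have hcomm' : ∀ v, M'.1 ((Y : V ≃ₗ[F] V) v) = (Y : V ≃ₗ[F] V) (M'.1 v) := fun v => by
    rw [hM', hM', hcomm, map_smul]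
  have hform' : ∀ v, Q (M'.1 v) = (ε⁻¹ * ε⁻¹ * c) * τ (Q v) := fun v => by
    rw [hM', QuadraticMap.map_smul, h.form, smul_eq_mul]
    ring
  have hpol : ∀ u v, polar Q (M'.1 u) (M'.1 v) = (ε⁻¹ * ε⁻¹ * c) * τ (polar Q u v) := fun u v => by
    rw [polar, polar, ← hadd, hform', hform', hform', map_sub, map_sub]
    ring
  have hHst : ∀ v ∈ D.H, M'.1 v ∈ D.H := by
    intro v hv
    rw [D.mem_H] at hv ⊢
    have h2 := hpol l v
    rw [hM'l, hv, map_zero, mul_zero] at h2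
    exact h2
  have hτ := D.linear M'.1 τ hadd hsmτ hcomm' hHst
  have hsm : ∀ (s : F) (v : V), M'.1 (s • v) = s • M'.1 v := fun s v => by rw [hsmτ, hτ]
  have hc1 : ε⁻¹ * ε⁻¹ * c = 1 := by
    have h2 := hform' l
    rw [hM'l, hτ] at h2
    have h3 : (ε⁻¹ * ε⁻¹ * c - 1) * Q l = 0 := by linear_combination -h2
    exact sub_eq_zero.1 ((mul_eq_zero.1 h3).resolve_right D.ql)
  let T : V ≃ₗ[F] V := mkLin M'.1 hadd hsm 1 one_ne_zero
  have hT : ∀ v, T v = M'.1 v := fun v => one_smul F _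
  have hTO : T ∈ O Q := by
    intro v
    rw [hT, hform', hc1, one_mul, hτ]
  have hPsiT : Psi Q (ofO Q ⟨T, hTO⟩) = α := by
    rw [← hPsi', Psi_eq_iff hG]
    exact ⟨1, fun v => rfl⟩
  have hTl : T l = l := by rw [hT, hM'l]
  refine ⟨⟨T, hTO⟩, hPsiT, hTO, fun v => ?_, hTl, ?_, ?_⟩
  · show T ((Y : V ≃ₗ[F] V) v) = (Y : V ≃ₗ[F] V) (T v)
    rw [hT, hT, hcomm']
  · have h2 : Psi Q (ofO Q (⟨T, hTO⟩ ^ (Nat.card F + 1))) = Psi Q 1 := by
      rw [map_pow, map_pow, hPsiT, hpow, map_one]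
    obtain ⟨s, hs⟩ := (Psi_eq_iff hG _ _).1 h2
    have hs' : ∀ v, (T ^ (Nat.card F + 1)) v = (s : F) • v := hs
    have h3 : ∀ n : ℕ, (T ^ n) l = l := by
      intro n
      induction n with
      | zero => rfl
      | succ n ih =>
        rw [pow_succ]
        show (T ^ n) (T l) = l
        rw [hTl, ih]
    have h4 := hs' l
    rw [h3] at h4
    have h5 : ((s : F) - 1) • l = 0 := by rw [sub_smul, one_smul, ← h4, sub_self]
    have h6 : (s : F) = 1 := sub_eq_zero.1 ((smul_eq_zero.1 h5).resolve_right hl0)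
    show T ^ (Nat.card F + 1) = 1
    ext v
    rw [hs', h6, one_smul]
    rfl
  · intro h2
    apply hsq
    have h3 : (⟨T, hTO⟩ : O Q) * ⟨T, hTO⟩ = 1 := Subtype.ext h2
    rw [← hPsiT, ← map_mul, ← map_mul, h3, map_one, map_one]

/-! ### The group `R` -/

section

variable {R P : Type*} [Group R] [Group P] (S : Subgroup R) [S.Normal] (e : S ≃* P)

/-- the action of `R` on `S ≅ P` -/
noncomputable def act : R →* MulAut P := (MulAut.congr e).toMonoidHom.comp (MulAut.conjNormal (H := S))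

theorem act_apply (g : R) (x : S) (h : g * x * g⁻¹ ∈ S) : act S e g (e x) = e ⟨g * x * g⁻¹, h⟩ := by
  show e (MulAut.conjNormal g (e.symm (e x))) = _
  rw [e.symm_apply_apply]
  congr 1

theorem act_injective (hC : Subgroup.centralizer (S : Set R) = ⊥) : Function.Injective (act S e) := by
  rw [injective_iff_map_eq_one]
  intro g hg
  have h1 : g ∈ Subgroup.centralizer (S : Set R) := by
    rw [Subgroup.mem_centralizer_iff]
    intro x hx
    have hn : g * x * g⁻¹ ∈ S := ‹S.Normal›.conj_mem x hx g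
    have h2 := act_apply S e g ⟨x, hx⟩ hn
    rw [hg, MulAut.one_apply] at h2
    have h3 := congrArg Subtype.val (e.injective h2)
    have h4 : x = g * x * g⁻¹ := h3
    rw [eq_mul_inv_iff_mul_eq] at h4
    exact h4
  rw [hC] at h1
  exact Subgroup.mem_bot.1 h1

theorem act_coe (s : S) : act S e (s : R) = MulAut.conj (e s) := by
  ext x
  obtain ⟨y, rfl⟩ := e.surjective x
  rw [act_apply S e _ y (S.mul_mem (S.mul_mem s.2 y.2) (S.inv_mem s.2)), MulAut.conj_apply, ← map_inv, ← map_mul,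
    ← map_mul]
  rfl

end

/-- **The theorem.** -/
theorem core (hG : Good Q) (hd : finrank F V = 7) (h2 : (2 : F) ≠ 0) (hp : p.Prime) (ha : 1 ≤ a)
    (hr : Prim p (6 * a) r) (hF : Nat.card F = p ^ a) {R : Type*} [Group R] (S : Subgroup R) [S.Normal]
    (hC : Subgroup.centralizer (S : Set R) = ⊥) (e : S ≃* P Q) {y t : R} (hy : y ^ r = 1) (hy1 : y ≠ 1)
    (hyt : y * t = t * y) (htp : t ^ (Nat.card F + 1) = 1) (ht2 : t * t ≠ 1) :
    ∃ t₁ t₂ t₃ : R, IsConj t t₁ ∧ IsConj t t₂ ∧ IsConj t t₃ ∧ t * t₁ = t₁ * t ∧ t * t₂ = t₂ * t ∧ t * t₃ = t₃ * t ∧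
      t₁ ∉ Subgroup.zpowers t ∧ t₂ ∉ Subgroup.zpowers t ∧ t₃ ∉ Subgroup.zpowers t ∧ t₁ * t₂ * t₃ = t := by
  have hfd : FiniteDimensional F V := Module.finite_of_finrank_pos (by rw [hd]; norm_num)
  have hs : Function.Surjective (Psi Q) := AutOrth.Final.surjective_of_no_four hG (by rw [hd]) fun h => by
    rw [hd] at h
    norm_num at h
  have hinj := act_injective S e hC
  have hone : ∀ g, act S e g = 1 ↔ g = 1 := fun g => by rw [← hinj.eq_iff, map_one]
  obtain ⟨Y, l, hY, D⟩ := exists_Y hG hd h2 hp ha hr hF hs (β := act S e y) (by rw [← map_pow, hy, map_one])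
    (fun h => hy1 ((hone y).1 h))
  obtain ⟨T, hT, tor⟩ := exists_T hG D hs (α := act S e t) (by rw [hY, ← map_mul, ← map_mul, hyt])
    (by rw [← map_pow, htp, map_one]) (fun h => ht2 ((hone _).1 (by rw [map_mul]; exact h)))
  obtain ⟨s, hsE, hprod, hcomm, hz⟩ := tor.main hG D
  -- the conjugators
  have hsO : ∀ i, s i ∈ O Q := fun i => E_le_O (hsE i)
  let g : Fin 3 → R := fun i => ((e.symm (QuotientGroup.mk (⟨s i, hsE i⟩ : ↥(E Q)))) : S)
  have hg : ∀ i, act S e (g i) = Psi Q (ofO Q ⟨s i, hsO i⟩) := by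
    intro i
    rw [act_coe, e.apply_symm_apply, Psi_ofO (hsE i)]
  let G : Fin 3 → O Q := fun i => ⟨s i, hsO i⟩ * T * ⟨s i, hsO i⟩⁻¹
  have hGl : ∀ i, (G i : V ≃ₗ[F] V) = s i * T * (s i)⁻¹ := fun i => rfl
  have hact : ∀ i, act S e (g i * t * (g i)⁻¹) = Psi Q (ofO Q (G i)) := by
    intro i
    rw [map_mul, map_mul, map_inv, hg, ← hT, ← map_inv, ← map_inv, ← map_mul, ← map_mul, ← map_mul, ← map_mul]
  have hcj : ∀ i, IsConj t (g i * t * (g i)⁻¹) := fun i => isConj_iff.2 ⟨g i, rfl⟩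
  have hcm : ∀ i, t * (g i * t * (g i)⁻¹) = (g i * t * (g i)⁻¹) * t := by
    intro i
    apply hinj
    have e1 : act S e (t * (g i * t * (g i)⁻¹)) = act S e t * act S e (g i * t * (g i)⁻¹) := map_mul _ _ _
    have e2 : act S e (g i * t * (g i)⁻¹ * t) = act S e (g i * t * (g i)⁻¹) * act S e t := map_mul _ _ _
    rw [e1, e2, hact, ← hT, ← map_mul, ← map_mul, ← map_mul, ← map_mul]
    congr 2
    exact Subtype.ext (hcomm i)
  have hzp : ∀ i, g i * t * (g i)⁻¹ ∉ Subgroup.zpowers t := by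
    rintro i ⟨k, hk⟩
    have h1 : Psi Q (ofO Q (G i)) = Psi Q (ofO Q (T ^ k)) := by
      rw [← hact, map_zpow, map_zpow, hT, ← map_zpow]
      exact congrArg _ hk.symm
    obtain ⟨b, hb⟩ := (Psi_eq_iff hG _ _).1 h1
    have hb' : ∀ v, (G i : V ≃ₗ[F] V) v = (b : F) • ((T : V ≃ₗ[F] V) ^ k) v := hb
    have hl0 : l ≠ 0 := by
      rintro rfl
      exact D.ql (QuadraticMap.map_zero Q)
    have hTk : ∀ n : ℕ, ((T : V ≃ₗ[F] V) ^ n) l = l := by
      intro n
      induction n with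
      | zero => rfl
      | succ n ih =>
        rw [pow_succ]
        show ((T : V ≃ₗ[F] V) ^ n) ((T : V ≃ₗ[F] V) l) = l
        rw [tor.fl, ih]
    have hTz : ((T : V ≃ₗ[F] V) ^ k) l = l := by
      obtain ⟨n, rfl | rfl⟩ := k.eq_nat_or_neg
      · rw [zpow_natCast, hTk]
      · rw [zpow_neg, zpow_natCast]
        apply (((T : V ≃ₗ[F] V) ^ n)).injective
        rw [Tor.T_inv, hTk]
    have h3 := hb' l
    rw [hTz] at h3
    have h4 : (G i : V ≃ₗ[F] V) l = l := (hz i).1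
    rw [h4] at h3
    have h5 : ((b : F) - 1) • l = 0 := by rw [sub_smul, one_smul, ← h3, sub_self]
    have h6 : (b : F) = 1 := sub_eq_zero.1 ((smul_eq_zero.1 h5).resolve_right hl0)
    apply (hz i).2 k
    ext v
    have h7 := hb' v
    rw [h6, one_smul] at h7
    exact h7
  refine ⟨g 0 * t * (g 0)⁻¹, g 1 * t * (g 1)⁻¹, g 2 * t * (g 2)⁻¹, hcj 0, hcj 1, hcj 2, hcm 0, hcm 1, hcm 2,
    hzp 0, hzp 1, hzp 2, ?_⟩
  apply hinj
  rw [map_mul, map_mul, hact, hact, hact, ← hT, ← map_mul, ← map_mul, ← map_mul, ← map_mul]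
  congr 2
  exact Subtype.ext hprod

end Cfsg.Agent.H832.PoSeven
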