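import Cfsg.Agent.AutOrth.Final
import Cfsg.Agent.H436.Ppd

/-!
# Isometries whose order is a primitive prime divisor of `p ^ (6 a) - 1` in dimension 7 (helper832)
-/

set_option autoImplicit false
set_option linter.unusedSectionVars false

namespace Cfsg.Agent.H832.PoSeven

open Module QuadraticMap Cfsg.Agent.LieClassical.OrthCore Cfsg.Agent.LieClassical.OrthTrans
  Cfsg.Agent.ClassicalGeometry.OrthSemi Cfsg.Agent.ClassicalGeometry.OrthAut1
open Cfsg.Agent.H436 (Prim)

/-- the number of fixed points of an additive map of prime order -/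
theorem prim_dvd {A : Type*} [AddCommGroup A] [Finite A] {p a r n : ℕ} (hp : p.Prime) (hr : Prim p (6 * a) r)
    (hn : Nat.card A = p ^ n) (f : A →+ A) (hf : ∀ x, f^[r] x = x) :
    ∃ b, b ≤ n ∧ Nat.card {x : A // f x = x} = p ^ b ∧ 6 * a ∣ n - b := by
  classical
  have := Fact.mk hr.prime
  have := Fact.mk hp
  have := Fintype.ofFinite A
  have h1 : Fintype.card A ≡ Fintype.card (Function.fixedPoints (f : A → A)) [MOD r] := by
    apply Equiv.Perm.card_fixedPoints_modEq (f := (f : A → A)) (n := 1)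
    rw [pow_one]
    funext x
    exact hf x
  rw [← Nat.card_eq_fintype_card, ← Nat.card_eq_fintype_card, hn] at h1
  have h2 : Nat.card (Function.fixedPoints (f : A → A)) = Nat.card {x : A // f x = x} := rfl
  rw [h2] at h1
  have h3 : Nat.card {x : A // f x = x} = Nat.card (f - AddMonoidHom.id A).ker := by
    apply Nat.card_congr
    refine Equiv.subtypeEquivRight fun x => ?_
    rw [AddMonoidHom.mem_ker, AddMonoidHom.sub_apply, AddMonoidHom.id_apply, sub_eq_zero]
  have h4 : Nat.card (f - AddMonoidHom.id A).ker ∣ p ^ n := by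
    rw [← hn]
    exact AddSubgroup.card_addSubgroup_dvd_card _
  obtain ⟨b, hb, hb'⟩ := (Nat.dvd_prime_pow hp).1 h4
  refine ⟨b, hb, h3.trans hb', ?_⟩
  rw [h3, hb'] at h1
  have h5 : r ∣ p ^ n - p ^ b := (Nat.modEq_iff_dvd' (Nat.pow_le_pow_right hp.pos hb)).1 h1.symm
  have h6 : p ^ n - p ^ b = p ^ b * (p ^ (n - b) - 1) := by
    rw [Nat.mul_sub, mul_one, ← pow_add, Nat.add_sub_cancel' hb]
  rw [h6] at h5
  exact (hr.dvd_iff _).1 (((Nat.Prime.dvd_mul hr.prime).1 h5).resolve_left (hr.not_dvd_pow b))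

/-- a field automorphism of order `r` is trivial -/
theorem ringEquiv_eq_refl {F : Type*} [Field F] [Finite F] {p a r : ℕ} (hp : p.Prime) (ha : 1 ≤ a)
    (hr : Prim p (6 * a) r) (hF : Nat.card F = p ^ a) (σ : F ≃+* F) (hσ : ∀ x, σ^[r] x = x) (x : F) : σ x = x := by
  obtain ⟨b, hb, h1, h2⟩ := prim_dvd hp hr hF (σ : F ≃+* F).toRingHom.toAddMonoidHom hσ
  have h3 : a - b = 0 := by
    rcases Nat.eq_zero_or_pos (a - b) with h | h
    · exact h
    · have := Nat.le_of_dvd h h2
      omega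
  have h4 : b = a := by omega
  subst h4
  have h5 : Nat.card {x : F // σ x = x} = Nat.card F := h1.trans hF.symm
  have h6 : Function.Surjective (Subtype.val : {x : F // σ x = x} → F) :=
    ((Nat.bijective_iff_injective_and_card _).2 ⟨Subtype.val_injective, h5⟩).2
  obtain ⟨⟨y, hy⟩, rfl⟩ := h6 x
  exact hy

section

variable {F V : Type*} [Field F] [Finite F] [AddCommGroup V] [Module F V] [Finite V] {Q : QuadraticForm F V}
  {p a r : ℕ} {Y : V ≃ₗ[F] V} {l : V}

/-- `Y` is an isometry of prime order `r` in dimension 7, `l` its fixed vector. -/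
structure Dat (Q : QuadraticForm F V) (p a r : ℕ) (Y : V ≃ₗ[F] V) (l : V) : Prop where
  hp : p.Prime
  ha : 1 ≤ a
  prim : Prim p (6 * a) r
  cardF : Nat.card F = p ^ a
  two : (2 : F) ≠ 0
  nd : Nondeg Q
  dim : finrank F V = 7
  iso : ∀ v, Q (Y v) = Q v
  pow : Y ^ r = 1
  fl : Y l = l
  fix : ∀ v, Y v = v → ∃ c : F, v = c • l
  ql : Q l ≠ 0

omit [Finite F] [Finite V] in
theorem iter (Y : V ≃ₗ[F] V) (n : ℕ) (v : V) : Y^[n] v = (Y ^ n) v := by
  induction n with
  | zero => rfl
  | succ n ih => rw [Function.iterate_succ_apply', ih, pow_succ']; rfl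

omit [Finite F] in
theorem card_V (hF : Nat.card F = p ^ a) (hd : finrank F V = 7) : Nat.card V = p ^ (7 * a) := by
  rw [Module.natCard_eq_pow_finrank (K := F), hF, hd, ← pow_mul, mul_comm]

/-- existence of the fixed vector -/
theorem exists_dat (hp : p.Prime) (ha : 1 ≤ a) (hr : Prim p (6 * a) r) (hF : Nat.card F = p ^ a) (h2 : (2 : F) ≠ 0)
    (hnd : Nondeg Q) (hd : finrank F V = 7) (hiso : ∀ v, Q (Y v) = Q v) (hpow : Y ^ r = 1) (hne : Y ≠ 1) :
    ∃ l, Dat Q p a r Y l := by
  have hit : ∀ x, (Y : V →ₗ[F] V).toAddMonoidHom^[r] x = x := by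
    intro x
    have h3 := iter Y r x
    rw [hpow] at h3
    exact h3
  obtain ⟨b, hb, h1, h3⟩ := prim_dvd hp hr (card_V hF hd) (Y : V →ₗ[F] V).toAddMonoidHom hit
  let W : Submodule F V := LinearMap.ker ((Y : V →ₗ[F] V) - LinearMap.id)
  have hW : ∀ v, v ∈ W ↔ Y v = v := by
    intro v
    rw [LinearMap.mem_ker, LinearMap.sub_apply, LinearMap.id_apply, sub_eq_zero]
    rfl
  have h4 : Nat.card W = p ^ b := by
    rw [← h1]
    apply Nat.card_congr
    exact Equiv.subtypeEquivRight fun v => hW v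
  rw [Module.natCard_eq_pow_finrank (K := F), hF, ← pow_mul] at h4
  have h5 : a * finrank F W = b := Nat.pow_right_injective hp.two_le h4
  have h6 : finrank F W = 1 := by
    have h7 : finrank F W ≤ 7 := by rw [← hd]; exact Submodule.finrank_le W
    have h8 : 7 * a - b = a * (7 - finrank F W) := by rw [← h5, Nat.mul_sub, mul_comm 7 a]
    rw [h8, mul_comm 6 a] at h3
    have h9 : 6 ∣ 7 - finrank F W := Nat.dvd_of_mul_dvd_mul_left (by omega) h3
    have h10 : finrank F W ≠ 7 := by
      intro h11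
      apply hne
      have h12 : W = ⊤ := Submodule.eq_top_of_finrank_eq (by rw [h11, hd])
      ext v
      have h13 : v ∈ W := by rw [h12]; trivial
      exact (hW v).1 h13
    omega
  obtain ⟨⟨l, hl⟩, hl0, hl1⟩ := finrank_eq_one_iff'.1 h6
  have hfl : Y l = l := (hW l).1 hl
  have hfix : ∀ v, Y v = v → ∃ c : F, v = c • l := by
    intro v hv
    obtain ⟨c, hc⟩ := hl1 ⟨v, (hW v).2 hv⟩
    exact ⟨c, (congrArg Subtype.val hc).symm⟩
  refine ⟨l, hp, ha, hr, hF, h2, hnd, hd, hiso, hpow, hfl, hfix, ?_⟩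
  -- `Q l ≠ 0`
  intro hq
  have hpol : ∀ u v, polar Q (Y u) (Y v) = polar Q u v := by
    intro u v
    rw [polar, polar, ← map_add, hiso, hiso, hiso]
  have hpol1 : ∀ v, polar Q l (Y v) = polar Q l v := by
    intro v
    have := hpol l v
    rwa [hfl] at this
  have hpoln : ∀ (n : ℕ) v, polar Q l ((Y ^ n) v) = polar Q l v := by
    intro n
    induction n with
    | zero => intro v; rfl
    | succ n ih =>
      intro v
      rw [pow_succ]
      show polar Q l ((Y ^ n) (Y v)) = _
      rw [ih, hpol1]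
  have hr0 : (r : F) ≠ 0 := by
    intro h
    have : Fact p.Prime := ⟨hp⟩
    have : CharP F p := by
      obtain ⟨q, hq⟩ := CharP.exists F
      have hqp : q.Prime := (CharP.char_is_prime_or_zero F q).resolve_right (CharP.char_ne_zero_of_finite F q)
      have : Fact q.Prime := ⟨hqp⟩
      have := Fintype.ofFinite F
      obtain ⟨n, -, hn⟩ := FiniteField.card F q
      rw [← Nat.card_eq_fintype_card, hF] at hn
      have h7 : p ∣ q ^ (n : ℕ) := by rw [← hn]; exact dvd_pow_self p (by omega)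
      rwa [← (Nat.prime_dvd_prime_iff_eq hp hqp).1 (hp.dvd_of_dvd_pow h7)] at hq
    have h7 := (CharP.cast_eq_zero_iff F p r).1 h
    have h8 := (Nat.prime_dvd_prime_iff_eq hp hr.prime).1 h7
    exact hr.not_dvd (by rw [h8])
  have hl0' : l ≠ 0 := fun h => hl0 (Subtype.ext h)
  apply hl0'
  apply hnd
  intro w
  let N : V := ∑ i ∈ Finset.range r, (Y ^ i) w
  have hN : Y N = N := by
    have h7 : Y N = ∑ i ∈ Finset.range r, (Y ^ (i + 1)) w := by
      rw [map_sum]
      apply Finset.sum_congr rfl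
      intro i _
      rw [pow_succ']
      rfl
    rw [h7]
    have h8 := Finset.sum_range_succ' (fun i => (Y ^ i) w) r
    have h9 := Finset.sum_range_succ (fun i => (Y ^ i) w) r
    rw [h8, hpow] at h9
    have h10 : (Y ^ 0) w = (1 : V ≃ₗ[F] V) w := by rw [pow_zero]
    rw [h10] at h9
    exact add_right_cancel h9
  obtain ⟨c, hc⟩ := hfix N hN
  have h7 : polar Q l N = r * polar Q l w := by
    have h8 : ∀ n : ℕ, polar Q l (∑ i ∈ Finset.range n, (Y ^ i) w) = n * polar Q l w := by
      intro n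
      induction n with
      | zero => rw [Finset.sum_range_zero, polar_zero_right, Nat.cast_zero, zero_mul]
      | succ n ih => rw [Finset.sum_range_succ, polar_add_right, ih, hpoln, Nat.cast_succ]; ring
    exact h8 r
  rw [hc, polar_smul_right, polar_self, hq, nsmul_zero, smul_zero] at h7
  exact (mul_eq_zero.1 h7.symm).resolve_left hr0

namespace Dat

theorem charP (D : Dat Q p a r Y l) : CharP F p := by
  obtain ⟨q, hq⟩ := CharP.exists F
  have hqp : q.Prime := (CharP.char_is_prime_or_zero F q).resolve_right (CharP.char_ne_zero_of_finite F q)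
  have : Fact q.Prime := ⟨hqp⟩
  have := Fintype.ofFinite F
  obtain ⟨n, -, hn⟩ := FiniteField.card F q
  rw [← Nat.card_eq_fintype_card, D.cardF] at hn
  have h7 : p ∣ q ^ (n : ℕ) := by rw [← hn]; exact dvd_pow_self p (by have := D.ha; omega)
  rwa [← (Nat.prime_dvd_prime_iff_eq D.hp hqp).1 (D.hp.dvd_of_dvd_pow h7)] at hq

/-- the hyperplane `l^⊥` -/
def H (_ : Dat Q p a r Y l) : Submodule F V := LinearMap.ker (polarBilin Q l)

theorem mem_H (D : Dat Q p a r Y l) {v : V} : v ∈ D.H ↔ polar Q l v = 0 := by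
  rw [H, LinearMap.mem_ker, polarBilin_apply_apply]

theorem l_not_mem (D : Dat Q p a r Y l) : l ∉ D.H := by
  rw [D.mem_H, polar_self]
  intro h
  rw [nsmul_eq_mul] at h
  exact mul_ne_zero (by exact_mod_cast D.two) D.ql h

theorem polar_Y (D : Dat Q p a r Y l) (u v : V) : polar Q (Y u) (Y v) = polar Q u v := by
  rw [polar, polar, ← map_add, D.iso, D.iso, D.iso]

theorem Y_mem_H (D : Dat Q p a r Y l) {v : V} (hv : v ∈ D.H) : Y v ∈ D.H := by
  rw [D.mem_H] at hv ⊢
  have h := D.polar_Y l v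
  rw [D.fl] at h
  rw [h, hv]

theorem finrank_H (D : Dat Q p a r Y l) : finrank F D.H = 6 := by
  have h1 := LinearMap.finrank_range_add_finrank_ker (polarBilin Q l)
  have h2 : LinearMap.range (polarBilin Q l) = ⊤ := by
    rw [LinearMap.range_eq_top]
    intro c
    have h3 : polarBilin Q l l ≠ 0 := fun h => D.l_not_mem h
    exact ⟨(c * (polarBilin Q l l)⁻¹) • l, by rw [map_smul, smul_eq_mul, mul_assoc, inv_mul_cancel₀ h3, mul_one]⟩
  rw [h2, finrank_top, finrank_self, D.dim] at h1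
  have h4 : finrank F D.H = finrank F (LinearMap.ker (polarBilin Q l)) := rfl
  omega

theorem card_H (D : Dat Q p a r Y l) : Nat.card D.H = p ^ (6 * a) := by
  rw [Module.natCard_eq_pow_finrank (K := F), D.finrank_H, D.cardF, ← pow_mul, mul_comm]

/-- **Irreducibility.** -/
theorem irr (D : Dat Q p a r Y l) (A : AddSubgroup V) (hA : ∀ v ∈ A, Y v ∈ A) (hAH : ∀ v ∈ A, v ∈ D.H) {v₀ : V}
    (hv : v₀ ∈ A) (h0 : v₀ ≠ 0) {v : V} (hvH : v ∈ D.H) : v ∈ A := by
  have h1 : Nat.card A ∣ p ^ (7 * a) := by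
    rw [← card_V D.cardF D.dim]
    exact AddSubgroup.card_addSubgroup_dvd_card A
  obtain ⟨n, -, hn⟩ := (Nat.dvd_prime_pow D.hp).1 h1
  let f : A →+ A := ((Y : V →ₗ[F] V).toAddMonoidHom.comp A.subtype).codRestrict A fun x => hA x x.2
  have hf : ∀ (k : ℕ) (x : A), ((f^[k] x : A) : V) = (Y ^ k) x := by
    intro k x
    induction k with
    | zero => rfl
    | succ k ih =>
      rw [Function.iterate_succ_apply', pow_succ']
      show Y ((f^[k] x : A) : V) = _
      rw [ih]
      rfl
  obtain ⟨b, hb, h2, h3⟩ := prim_dvd D.hp D.prim hn f fun x => Subtype.ext (by rw [hf, D.pow]; rfl)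
  have h4 : Nat.card {x : A // f x = x} = 1 := by
    rw [Nat.card_eq_one_iff_unique]
    refine ⟨⟨?_⟩, ⟨⟨0, map_zero f⟩⟩⟩
    have key : ∀ x : {x : A // f x = x}, ((x : A) : V) = 0 := by
      rintro ⟨⟨x, hx⟩, hfx⟩
      have h5 : Y x = x := congrArg Subtype.val hfx
      obtain ⟨c, rfl⟩ := D.fix x h5
      have h6 := D.mem_H.1 (hAH _ hx)
      rw [polar_smul_right, smul_eq_mul] at h6
      have h7 : c = 0 := (mul_eq_zero.1 h6).resolve_right fun h => D.l_not_mem (D.mem_H.2 h)
      show c • l = 0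
      rw [h7, zero_smul]
    intro x y
    exact Subtype.ext (Subtype.ext ((key x).trans (key y).symm))
  rw [h4] at h2
  have h5 : b = 0 := by
    by_contra h
    have := Nat.one_lt_pow h D.hp.one_lt
    omega
  rw [h5, Nat.sub_zero] at h3
  have h6 : n ≠ 0 := by
    rintro rfl
    rw [pow_zero] at hn
    have := (Nat.card_eq_one_iff_unique.1 hn).1
    exact h0 (congrArg Subtype.val (Subsingleton.elim (⟨v₀, hv⟩ : A) 0))
  have h7 : 6 * a ≤ n := Nat.le_of_dvd (Nat.pos_of_ne_zero h6) h3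
  have h8 : A = D.H.toAddSubgroup := by
    apply AddSubgroup.eq_of_le_of_card_ge (fun v hv => hAH v hv)
    have h9 : Nat.card D.H.toAddSubgroup = p ^ (6 * a) := D.card_H
    rw [h9, hn]
    exact Nat.pow_le_pow_right D.hp.pos h7
  rw [h8]
  exact hvH

theorem exists_ne (D : Dat Q p a r Y l) : ∃ v ∈ D.H, v ≠ 0 := by
  by_contra h
  push Not at h
  have h1 : D.H = ⊥ := by
    rw [eq_bot_iff]
    intro v hv
    exact h v hv
  have h2 := D.finrank_H
  rw [h1, finrank_bot] at h2
  omega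

/-- two additive maps commuting with `Y` and equal at one nonzero vector of `H` are equal on `H` -/
theorem eq_of_eq (D : Dat Q p a r Y l) (f g : V →+ V) (hf : ∀ v, f (Y v) = Y (f v)) (hg : ∀ v, g (Y v) = Y (g v))
    {v₀ : V} (hv : v₀ ∈ D.H) (h0 : v₀ ≠ 0) (h : f v₀ = g v₀) {v : V} (hvH : v ∈ D.H) : f v = g v := by
  let A : AddSubgroup V := (f - g).ker ⊓ D.H.toAddSubgroup
  have hA : ∀ v, v ∈ A ↔ f v = g v ∧ v ∈ D.H := by
    intro v
    rw [AddSubgroup.mem_inf, AddMonoidHom.mem_ker, AddMonoidHom.sub_apply, sub_eq_zero]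
    rfl
  refine ((hA v).1 (D.irr A ?_ ?_ ((hA v₀).2 ⟨h, hv⟩) h0 hvH)).1
  · intro w hw
    rw [hA] at hw ⊢
    exact ⟨by rw [hf, hg, hw.1], D.Y_mem_H hw.2⟩
  · intro w hw
    exact ((hA w).1 hw).2

/-- **Linearity.** An additive semilinear map commuting with `Y` is linear. -/
theorem linear (D : Dat Q p a r Y l) (T : Equiv.Perm V) (τ : F → F) (hadd : ∀ u v, T (u + v) = T u + T v)
    (hsm : ∀ (c : F) (v : V), T (c • v) = τ c • T v) (hY : ∀ v, T (Y v) = Y (T v)) (hH : ∀ v ∈ D.H, T v ∈ D.H)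
    (c : F) : τ c = c := by
  have hT0 : T 0 = 0 := by
    have := hadd 0 0
    rw [add_zero] at this
    exact left_eq_add.1 this
  let E := AddMonoid.End V
  let y : E := (Y : V →ₗ[F] V).toAddMonoidHom
  let t : E := ⟨⟨T, hT0⟩, hadd⟩
  let s : E := (LinearMap.lsmul F V c).toAddMonoidHom
  let B : Subring E := Subring.closure {y}
  have hcomm : ∀ f : E, f * y = y * f → ∀ b ∈ B, ∀ v, f (b v) = b (f v) := by
    intro f hf b hb v
    have h1 : B ≤ Subring.centralizer {f} := by
      rw [Subring.closure_le]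
      rintro _ rfl
      exact Subring.mem_centralizer_iff.2 fun g hg => by
        rw [Set.mem_singleton_iff] at hg
        rw [hg]
        exact hf
    have h2 := Subring.mem_centralizer_iff.1 (h1 hb) f rfl
    exact DFunLike.congr_fun h2 v
  have hyB : y ∈ B := Subring.subset_closure rfl
  have hBH : ∀ b ∈ B, ∀ v ∈ D.H, b v ∈ D.H := by
    intro b hb
    induction hb using Subring.closure_induction with
    | mem x hx =>
      rw [Set.mem_singleton_iff] at hx
      intro v hv
      rw [hx]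
      exact D.Y_mem_H hv
    | zero => intro v _; exact D.H.zero_mem
    | one => intro v hv; exact hv
    | add x y _ _ hx hy => intro v hv; exact D.H.add_mem (hx v hv) (hy v hv)
    | neg x _ hx => intro v hv; exact D.H.neg_mem (hx v hv)
    | mul x y _ _ hx hy => intro v hv; exact hx _ (hy v hv)
  obtain ⟨v, hv, hv0⟩ := D.exists_ne
  -- every element of `H` is `b v`
  have hall : ∀ w ∈ D.H, ∃ b ∈ B, w = b v := by
    intro w hw
    let A : AddSubgroup V := B.toAddSubgroup.map (AddMonoidHom.eval v)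
    have hA : ∀ w, w ∈ A ↔ ∃ b ∈ B, w = b v := by
      intro w
      constructor
      · rintro ⟨b, hb, rfl⟩
        exact ⟨b, hb, rfl⟩
      · rintro ⟨b, hb, rfl⟩
        exact ⟨b, hb, rfl⟩
    refine (hA w).1 (D.irr A ?_ ?_ ((hA v).2 ⟨1, B.one_mem, rfl⟩) hv0 hw)
    · intro u hu
      obtain ⟨b, hb, rfl⟩ := (hA u).1 hu
      exact (hA _).2 ⟨y * b, B.mul_mem hyB hb, rfl⟩
    · intro u hu
      obtain ⟨b, hb, rfl⟩ := (hA u).1 hu
      exact hBH b hb v hv
  obtain ⟨b, hb, hbv⟩ := hall (c • v) (D.H.smul_mem c hv)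
  have hsb : ∀ w ∈ D.H, c • w = b w := by
    intro w hw
    obtain ⟨b', hb', rfl⟩ := hall w hw
    have h1 : s (b' v) = b' (s v) := hcomm s (by
      ext u
      exact (map_smul Y c u).symm) b' hb' v
    have h2 : s v = b v := hbv
    have h3 : s (b' v) = c • b' v := rfl
    rw [← h3, h1, h2]
    have h4 : ∀ u, b' (y u) = y (b' u) := by
      intro u
      exact (hcomm y rfl b' hb' u).symm
    exact (hcomm b' (by ext u; exact h4 u) b hb v)
  have h1 : T (c • v) = τ c • T v := hsm c v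
  have h2 : T (b v) = b (T v) := hcomm t (by ext u; exact hY u) b hb v
  have h3 : τ c • T v = c • T v := by
    rw [← h1, hbv, h2, hsb _ (hH v hv)]
  have h4 : T v ≠ 0 := fun h => hv0 (T.injective (by rw [h, hT0]))
  have h5 : (τ c - c) • T v = 0 := by rw [sub_smul, h3, sub_self]
  exact sub_eq_zero.1 ((smul_eq_zero.1 h5).resolve_right h4)

end Dat

end

end Cfsg.Agent.H832.PoSeven
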