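import Cfsg.Agent.H832.PoSeven.Count

/-!
# Two commuting isometries in dimension 7: planes (helper832)

`Y` of order `r` (a primitive prime divisor of `p ^ (6 a) - 1`), `T` with `T ^ (q + 1) = 1`, `T² ≠ 1` commuting with `Y`, `T l = l`.
`T² = lam T - 1` on `l^⊥`, the sum of three orthogonal anisotropic `T`-invariant planes. The element `T` is the product of three
conjugates of `T`.
-/

set_option autoImplicit false
set_option linter.unusedSectionVars false

namespace Cfsg.Agent.H832.PoSeven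

open Module QuadraticMap Cfsg.Agent.LieClassical.OrthCore Cfsg.Agent.LieClassical.OrthTrans
open Cfsg.Agent.H436 (Prim)

variable {F V : Type*} [Field F] [Finite F] [AddCommGroup V] [Module F V] [Finite V] {Q : QuadraticForm F V}
  {p a r : ℕ} {Y T : V ≃ₗ[F] V} {l : V} {lam : F}

/-- the second isometry -/
structure Tor (Q : QuadraticForm F V) (Y T : V ≃ₗ[F] V) (l : V) : Prop where
  iso : ∀ v, Q (T v) = Q v
  comm : ∀ v, T (Y v) = Y (T v)
  fl : T l = l
  pow : T ^ (Nat.card F + 1) = 1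
  sq : T * T ≠ 1

namespace Tor

theorem polar_T (t : Tor Q Y T l) (u v : V) : polar Q (T u) (T v) = polar Q u v := by
  rw [polar, polar, ← map_add, t.iso, t.iso, t.iso]

theorem mem_H (t : Tor Q Y T l) (D : Dat Q p a r Y l) {v : V} (hv : v ∈ D.H) : T v ∈ D.H := by
  rw [D.mem_H] at hv ⊢
  have h := t.polar_T l v
  rw [t.fl] at h
  rw [h, hv]

theorem inv_mem_H (t : Tor Q Y T l) (D : Dat Q p a r Y l) {v : V} (hv : v ∈ D.H) : T⁻¹ v ∈ D.H := by
  rw [D.mem_H] at hv ⊢
  have h := t.polar_T l (T⁻¹ v)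
  have h2 : T (T⁻¹ v) = v := LinearEquiv.apply_symm_apply T v
  rw [t.fl, h2] at h
  rw [← h, hv]

theorem inv_comm (t : Tor Q Y T l) (v : V) : T⁻¹ (Y v) = Y (T⁻¹ v) := by
  apply T.injective
  have h2 : ∀ v, T (T⁻¹ v) = v := fun v => LinearEquiv.apply_symm_apply T v
  rw [h2, t.comm, h2]

/-- `T + T⁻¹` is a scalar on `H` -/
theorem exists_lam (t : Tor Q Y T l) (D : Dat Q p a r Y l) : ∃ lam : F, ∀ v ∈ D.H, T (T v) = lam • T v - v := by
  have := D.charP
  have : Fact p.Prime := ⟨D.hp⟩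
  have := Fintype.ofFinite F
  let φ := LinearEquiv.automorphismGroup.toLinearMapMonoidHom (R := F) (M := V)
  let C : Module.End F V := φ T + φ T⁻¹
  have hC : ∀ v, C v = T v + T⁻¹ v := fun v => rfl
  have hcharE : CharP (Module.End F V) p := by
    obtain ⟨v, -, hv⟩ := D.exists_ne
    have : Nontrivial V := ⟨⟨v, 0, hv⟩⟩
    exact charP_of_injective_algebraMap (FaithfulSMul.algebraMap_injective F (Module.End F V)) p
  have hq : C ^ Nat.card F = C := by
    have hcm : Commute (φ T) (φ T⁻¹) := by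
      show φ T * φ T⁻¹ = φ T⁻¹ * φ T
      rw [← map_mul, ← map_mul, mul_inv_cancel, inv_mul_cancel]
    have h1 : T ^ Nat.card F = T⁻¹ := by
      have h2 := t.pow
      rw [pow_succ] at h2
      exact eq_inv_of_mul_eq_one_left h2
    have h3 : T⁻¹ ^ Nat.card F = T := by rw [inv_pow, h1, inv_inv]
    have h4 : Nat.card F = p ^ a := D.cardF
    calc C ^ Nat.card F = (φ T) ^ Nat.card F + (φ T⁻¹) ^ Nat.card F := by
          rw [h4]; exact add_pow_char_pow_of_commute p a hcm
      _ = φ T⁻¹ + φ T := by rw [← map_pow, ← map_pow, h1, h3]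
      _ = C := add_comm _ _
  have hCH : ∀ v ∈ D.H, C v ∈ D.H := fun v hv => D.H.add_mem (t.mem_H D hv) (t.inv_mem_H D hv)
  let C' : Module.End F D.H := C.restrict hCH
  have hC' : ∀ (n : ℕ) (v : D.H), (((C' ^ n) v : D.H) : V) = (C ^ n) v := by
    intro n
    induction n with
    | zero => intro v; rfl
    | succ n ih =>
      intro v
      rw [pow_succ, pow_succ, Module.End.mul_apply, Module.End.mul_apply, ih]
      rfl
  have hq' : C' ^ Nat.card F = C' := by
    ext v
    rw [hC', hq]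
    rfl
  have hmin : minpoly F C' ∣ (Polynomial.X ^ Fintype.card F - Polynomial.X : Polynomial F) := by
    apply minpoly.dvd
    rw [map_sub, map_pow, Polynomial.aeval_X, ← Nat.card_eq_fintype_card, hq', sub_self]
  have hsp : (Polynomial.X ^ Fintype.card F - Polynomial.X : Polynomial F).Splits := by
    have h := (FiniteField.isSplittingField_sub F F).splits
    rwa [Algebra.algebraMap_self, Polynomial.map_id] at h
  have hne : (Polynomial.X ^ Fintype.card F - Polynomial.X : Polynomial F) ≠ 0 :=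
    FiniteField.X_pow_card_sub_X_ne_zero F Fintype.one_lt_card
  obtain ⟨v₀, hv₀, hv0⟩ := D.exists_ne
  have : Nontrivial D.H := ⟨⟨⟨v₀, hv₀⟩, 0, fun h => hv0 (congrArg Subtype.val h)⟩⟩
  have hdeg : (minpoly F C').degree ≠ 0 := (minpoly.degree_pos (Algebra.IsIntegral.isIntegral C')).ne'
  obtain ⟨lam, hlam⟩ := (hsp.of_dvd hne hmin).exists_eval_eq_zero hdeg
  obtain ⟨w, hw⟩ := (Module.End.hasEigenvalue_of_isRoot (f := C') (μ := lam) hlam).exists_hasEigenvector
  have hw1 : T w + T⁻¹ w = lam • (w : V) := congrArg Subtype.val hw.apply_eq_smul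
  have hw0 : (w : V) ≠ 0 := fun h => hw.2 (Subtype.ext h)
  refine ⟨lam, fun v hv => ?_⟩
  have key := D.eq_of_eq (C : V →ₗ[F] V).toAddMonoidHom (LinearMap.lsmul F V lam).toAddMonoidHom
    (fun v => by
      show T (Y v) + T⁻¹ (Y v) = Y (T v + T⁻¹ v)
      rw [t.comm, t.inv_comm, map_add])
    (fun v => by
      show lam • Y v = Y (lam • v)
      rw [map_smul]) w.2 hw0 hw1 (t.mem_H D hv)
  have key' : T (T v) + T⁻¹ (T v) = lam • T v := key
  have h2 : T⁻¹ (T v) = v := LinearEquiv.symm_apply_apply T v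
  rw [h2] at key'
  rw [← key', add_sub_cancel_right]

/-- `V = F l + H` -/
theorem _root_.Cfsg.Agent.H832.PoSeven.Dat.decomp (D : Dat Q p a r Y l) (v : V) : ∃ c : F, v - c • l ∈ D.H := by
  have h : polar Q l l ≠ 0 := fun h => D.l_not_mem (D.mem_H.2 h)
  refine ⟨polar Q l v * (polar Q l l)⁻¹, ?_⟩
  rw [D.mem_H, polar_sub_right, polar_smul_right, smul_eq_mul, mul_assoc, inv_mul_cancel₀ h, mul_one, sub_self]

theorem sq_ne (t : Tor Q Y T l) (D : Dat Q p a r Y l) {v : V} (hv : v ∈ D.H) (h0 : v ≠ 0) : T (T v) ≠ v := by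
  intro h
  apply t.sq
  have h1 : ∀ w ∈ D.H, T (T w) = w := by
    intro w hw
    exact D.eq_of_eq ((T : V →ₗ[F] V).comp (T : V →ₗ[F] V)).toAddMonoidHom (AddMonoidHom.id V)
      (fun v => by
        show T (T (Y v)) = Y (T (T v))
        rw [t.comm, t.comm]) (fun v => rfl) hv h0 h hw
  ext v
  obtain ⟨c, hc⟩ := D.decomp v
  have h2 := h1 _ hc
  rw [map_sub, map_sub, map_smul, map_smul, t.fl, t.fl] at h2
  exact sub_left_injective h2

/-- `T` has no eigenvector in `H` -/
theorem no_eig (t : Tor Q Y T l) (D : Dat Q p a r Y l) {v : V} (hv : v ∈ D.H) (h0 : v ≠ 0) (e : F) : T v ≠ e • v := by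
  intro h
  have hn : ∀ n : ℕ, (T ^ n) v = e ^ n • v := by
    intro n
    induction n with
    | zero => rw [pow_zero, pow_zero, one_smul]; rfl
    | succ n ih =>
      rw [pow_succ, pow_succ]
      show (T ^ n) (T v) = _
      rw [h, map_smul, ih, smul_smul, mul_comm]
  have h1 := hn (Nat.card F + 1)
  rw [t.pow] at h1
  have h2 : e ^ Nat.card F = e := by
    have := Fintype.ofFinite F
    rw [Nat.card_eq_fintype_card]
    exact FiniteField.pow_card e
  rw [pow_succ, h2] at h1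
  have h3 : v = (e * e) • v := h1
  apply t.sq_ne D hv h0
  rw [h, map_smul, h, smul_smul, ← h3]

/-- `x² - lam x + 1` has no root -/
theorem no_root (t : Tor Q Y T l) (D : Dat Q p a r Y l) (hl : ∀ v ∈ D.H, T (T v) = lam • T v - v) (e : F) :
    e * e - lam * e + 1 ≠ 0 := by
  intro h
  obtain ⟨v, hv, hv0⟩ := D.exists_ne
  by_cases h1 : T v - (lam - e) • v = 0
  · exact t.no_eig D hv hv0 _ (sub_eq_zero.1 h1)
  · have h2 : T v - (lam - e) • v ∈ D.H := D.H.sub_mem (t.mem_H D hv) (D.H.smul_mem _ hv)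
    apply t.no_eig D h2 h1 e
    rw [map_sub, map_smul, hl v hv, smul_sub, smul_smul]
    have h3 : e * (lam - e) = 1 := by linear_combination -h
    rw [h3, sub_smul, one_smul]
    abel

theorem four_sub_ne (t : Tor Q Y T l) (D : Dat Q p a r Y l) (hl : ∀ v ∈ D.H, T (T v) = lam • T v - v) :
    4 - lam * lam ≠ 0 := by
  intro h
  apply t.no_root D hl (lam / 2)
  have h2 := D.two
  field_simp
  linear_combination h

/-- norm form -/
theorem polar_v_Tv (t : Tor Q Y T l) (D : Dat Q p a r Y l) (hl : ∀ v ∈ D.H, T (T v) = lam • T v - v) {v : V}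
    (hv : v ∈ D.H) : polar Q v (T v) = lam * Q v := by
  have h1 := t.polar_T v (T v)
  rw [hl v hv, polar_sub_right, polar_smul_right, polar_self, t.iso, polar_comm Q (T v) v, smul_eq_mul,
    nsmul_eq_mul] at h1
  have h2 : (2 : F) * (polar Q v (T v) - lam * Q v) = 0 := by
    push_cast at h1
    linear_combination -h1
  exact sub_eq_zero.1 ((mul_eq_zero.1 h2).resolve_left D.two)

theorem Q_comb (t : Tor Q Y T l) (D : Dat Q p a r Y l) (hl : ∀ v ∈ D.H, T (T v) = lam • T v - v) {v : V}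
    (hv : v ∈ D.H) (x y : F) : Q (x • v + y • T v) = (x * x + lam * x * y + y * y) * Q v := by
  rw [Q_add, QuadraticMap.map_smul, QuadraticMap.map_smul, polar_smul_left, polar_smul_right, t.iso,
    t.polar_v_Tv D hl hv, smul_eq_mul, smul_eq_mul, smul_eq_mul, smul_eq_mul]
  ring

/-- the plane of `v` contains vectors with the value of `l` -/
theorem exists_val (t : Tor Q Y T l) (D : Dat Q p a r Y l) (hl : ∀ v ∈ D.H, T (T v) = lam • T v - v) {v : V}
    (hv : v ∈ D.H) (hQ : Q v ≠ 0) : ∃ x y : F, Q (x • v + y • T v) = Q l := by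
  have := Fintype.ofFinite F
  have h4 := t.four_sub_ne D hl
  have h2 := D.two
  have hd : (1 - lam * lam / 4) ≠ 0 := by
    intro h
    apply h4
    have h5 : (4 : F) ≠ 0 := by
      have : (4 : F) = 2 * 2 := by norm_num
      rw [this]
      exact mul_ne_zero h2 h2
    field_simp at h
    linear_combination h
  have hodd : Fintype.card F % 2 = 1 := by
    rcases FiniteField.even_card_iff_char_two (F := F) with h
    by_contra hc
    have h6 := h.2 (by omega)
    have h7 : ((2 : ℕ) : F) = 0 := by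
      rw [← h6]; exact ringChar.Nat.cast_ringChar
    exact h2 (by exact_mod_cast h7)
  obtain ⟨x, y, hxy⟩ := FiniteField.exists_root_sum_quadratic
    (f := Polynomial.C (1 : F) * Polynomial.X ^ 2 + Polynomial.C 0 * Polynomial.X + Polynomial.C 0)
    (g := Polynomial.C (1 - lam * lam / 4) * Polynomial.X ^ 2 + Polynomial.C 0 * Polynomial.X +
      Polynomial.C (-(Q l / Q v)))
    (Polynomial.degree_quadratic one_ne_zero) (Polynomial.degree_quadratic hd) hodd
  refine ⟨x - lam * y / 2, y, ?_⟩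
  rw [t.Q_comb D hl hv]
  have h8 : x * x + (1 - lam * lam / 4) * (y * y) = Q l / Q v := by
    simp only [Polynomial.eval_add, Polynomial.eval_mul, Polynomial.eval_C, Polynomial.eval_pow, Polynomial.eval_X]
      at hxy
    linear_combination hxy
  have h9 : (x - lam * y / 2) * (x - lam * y / 2) + lam * (x - lam * y / 2) * y + y * y =
      x * x + (1 - lam * lam / 4) * (y * y) := by
    have h5 : (4 : F) ≠ 0 := by
      have : (4 : F) = 2 * 2 := by norm_num
      rw [this]
      exact mul_ne_zero h2 h2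
    field_simp
    ring
  rw [h9, h8, div_mul_cancel₀ _ hQ]

theorem solve (t : Tor Q Y T l) (D : Dat Q p a r Y l) (hl : ∀ v ∈ D.H, T (T v) = lam • T v - v) {c : F} (hc : c ≠ 0)
    (A B : F) : ∃ x y : F, x * (2 * c) + y * (lam * c) = A ∧ x * (lam * c) + y * (2 * c) = B := by
  have h4 : 4 - lam ^ 2 ≠ 0 := by
    rw [pow_two]
    exact t.four_sub_ne D hl
  refine ⟨(2 * A - lam * B) / ((4 - lam ^ 2) * c), (2 * B - lam * A) / ((4 - lam ^ 2) * c), ?_, ?_⟩
  · field_simp
    ring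
  · field_simp
    ring

/-- admissible subspaces of `H` -/
structure Sub (_ : Tor Q Y T l) (D : Dat Q p a r Y l) (W : Submodule F V) : Prop where
  le : W ≤ D.H
  st : ∀ w ∈ W, T w ∈ W
  nd : ∀ u ∈ W, (∀ w ∈ W, polar Q u w = 0) → u = 0

theorem sub_H (t : Tor Q Y T l) (D : Dat Q p a r Y l) : t.Sub D D.H := by
  refine ⟨le_rfl, fun w hw => t.mem_H D hw, fun u hu h => ?_⟩
  apply D.nd
  intro v
  obtain ⟨c, hc⟩ := D.decomp v
  have h1 := h _ hc
  rw [polar_sub_right, polar_smul_right, polar_comm Q u l, D.mem_H.1 hu, smul_zero, sub_zero] at h1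
  exact h1

theorem Sub.exists_vec {t : Tor Q Y T l} {D : Dat Q p a r Y l} (hl : ∀ v ∈ D.H, T (T v) = lam • T v - v)
    {W : Submodule F V} (hW : t.Sub D W) (h : 0 < finrank F W) : ∃ v ∈ W, Q v = Q l := by
  have h1 : ∃ u ∈ W, Q u ≠ 0 := by
    by_contra hcon
    push Not at hcon
    have h2 : W = ⊥ := by
      rw [eq_bot_iff]
      intro u hu
      exact hW.nd u hu fun w hw => by rw [polar, hcon _ (W.add_mem hu hw), hcon _ hu, hcon _ hw, sub_zero, sub_zero]
    rw [h2, finrank_bot] at h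
    exact lt_irrefl _ h
  obtain ⟨u, hu, hQ⟩ := h1
  obtain ⟨x, y, hxy⟩ := t.exists_val D hl (hW.le hu) hQ
  exact ⟨_, W.add_mem (W.smul_mem x hu) (W.smul_mem y (hW.st u hu)), hxy⟩

theorem Sub.step {t : Tor Q Y T l} {D : Dat Q p a r Y l} (hl : ∀ v ∈ D.H, T (T v) = lam • T v - v)
    {W : Submodule F V} (hW : t.Sub D W) {v : V} (hv : v ∈ W) (hQ : Q v = Q l) :
    ∃ W' : Submodule F V, t.Sub D W' ∧ W' ≤ W ∧ finrank F W' + 2 = finrank F W ∧
      (∀ w ∈ W', polar Q v w = 0 ∧ polar Q (T v) w = 0) ∧ ∀ w ∈ W, ∃ x y : F, w - (x • v + y • T v) ∈ W' := by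
  have hQ0 : Q v ≠ 0 := by rw [hQ]; exact D.ql
  have hvH := hW.le hv
  have hTv := hW.st v hv
  let W' : Submodule F V := W ⊓ LinearMap.ker (polarBilin Q v) ⊓ LinearMap.ker (polarBilin Q (T v))
  have hm : ∀ w, w ∈ W' ↔ w ∈ W ∧ polar Q v w = 0 ∧ polar Q (T v) w = 0 := by
    intro w
    rw [Submodule.mem_inf, Submodule.mem_inf, LinearMap.mem_ker, LinearMap.mem_ker, polarBilin_apply_apply,
      polarBilin_apply_apply, and_assoc]
  have hvv : polar Q v v = 2 * Q v := by rw [polar_self, nsmul_eq_mul]; norm_num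
  have hTT : polar Q (T v) (T v) = 2 * Q v := by rw [t.polar_T, hvv]
  have hvT : polar Q v (T v) = lam * Q v := t.polar_v_Tv D hl hvH
  have hTv' : polar Q (T v) v = lam * Q v := by rw [polar_comm, hvT]
  have hp1 : ∀ x y : F, polar Q v (x • v + y • T v) = x * (2 * Q v) + y * (lam * Q v) := by
    intro x y
    rw [polar_add_right, polar_smul_right, polar_smul_right, hvv, hvT, smul_eq_mul, smul_eq_mul]
  have hp2 : ∀ x y : F, polar Q (T v) (x • v + y • T v) = x * (lam * Q v) + y * (2 * Q v) := by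
    intro x y
    rw [polar_add_right, polar_smul_right, polar_smul_right, hTT, hTv', smul_eq_mul, smul_eq_mul]
  have hproj : ∀ w ∈ W, ∃ x y : F, w - (x • v + y • T v) ∈ W' := by
    intro w hw
    obtain ⟨x, y, h1, h2⟩ := t.solve D hl hQ0 (polar Q v w) (polar Q (T v) w)
    refine ⟨x, y, (hm _).2 ⟨W.sub_mem hw (W.add_mem (W.smul_mem x hv) (W.smul_mem y hTv)), ?_, ?_⟩⟩
    · rw [polar_sub_right, hp1, h1, sub_self]
    · rw [polar_sub_right, hp2, h2, sub_self]
  refine ⟨W', ⟨?_, ?_, ?_⟩, ?_, ?_, ?_, hproj⟩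
  · intro w hw
    exact hW.le ((hm w).1 hw).1
  · intro w hw
    obtain ⟨h1, h2, h3⟩ := (hm w).1 hw
    refine (hm _).2 ⟨hW.st w h1, ?_, ?_⟩
    · have h5 : polar Q (T v) (T w) = 0 := by rw [t.polar_T, h2]
      have h6 : polar Q (T (T v)) (T w) = 0 := by rw [t.polar_T, h3]
      rw [hl v hvH, polar_sub_left, polar_smul_left, h5, smul_zero, zero_sub, neg_eq_zero] at h6
      exact h6
    · rw [t.polar_T, h2]
  · intro u hu h
    apply hW.nd u ((hm u).1 hu).1
    intro w hw
    obtain ⟨x, y, hxy⟩ := hproj w hw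
    have h1 := h _ hxy
    rw [polar_sub_right, polar_add_right, polar_smul_right, polar_smul_right, polar_comm Q u v,
      polar_comm Q u (T v), ((hm u).1 hu).2.1, ((hm u).1 hu).2.2, smul_zero, smul_zero, add_zero, sub_zero] at h1
    exact h1
  · intro w hw
    exact ((hm w).1 hw).1
  · let φ : W →ₗ[F] F × F := ((polarBilin Q v).comp W.subtype).prod ((polarBilin Q (T v)).comp W.subtype)
    have hφ : ∀ w : W, φ w = (polar Q v w, polar Q (T v) w) := fun w => rfl
    have h1 : LinearMap.range φ = ⊤ := by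
      rw [LinearMap.range_eq_top]
      rintro ⟨A, B⟩
      obtain ⟨x, y, h1, h2⟩ := t.solve D hl hQ0 A B
      refine ⟨⟨x • v + y • T v, W.add_mem (W.smul_mem x hv) (W.smul_mem y hTv)⟩, ?_⟩
      rw [hφ]
      exact Prod.ext ((hp1 x y).trans h1) ((hp2 x y).trans h2)
    have h2 := LinearMap.finrank_range_add_finrank_ker φ
    rw [h1, finrank_top, finrank_prod, finrank_self] at h2
    have h3 : LinearMap.ker φ = W'.comap W.subtype := by
      ext w
      rw [LinearMap.mem_ker, hφ, Submodule.mem_comap, hm, Prod.mk_eq_zero]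
      exact ⟨fun h => ⟨w.2, h.1, h.2⟩, fun h => h.2⟩
    have h4 : finrank F (W'.comap W.subtype) = finrank F W' :=
      LinearEquiv.finrank_eq (Submodule.comapSubtypeEquivOfLe (p := W') (q := W) fun w hw => ((hm w).1 hw).1)
    rw [h3, h4] at h2
    omega
  · intro w hw
    exact ((hm w).1 hw).2

/-- three orthogonal planes -/
structure Three (t : Tor Q Y T l) (D : Dat Q p a r Y l) (v : Fin 3 → V) : Prop where
  mem : ∀ i, v i ∈ D.H
  val : ∀ i, Q (v i) = Q l
  orth : ∀ i j, i ≠ j → polar Q (v i) (v j) = 0 ∧ polar Q (v i) (T (v j)) = 0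
  gen : ∀ w : V, ∃ (c : F) (x y : Fin 3 → F), w = c • l + ∑ i, (x i • v i + y i • T (v i))

theorem exists_three (t : Tor Q Y T l) (D : Dat Q p a r Y l) (hl : ∀ v ∈ D.H, T (T v) = lam • T v - v) :
    ∃ v : Fin 3 → V, t.Three D v := by
  have h0 := t.sub_H D
  obtain ⟨v₀, hv₀, hq₀⟩ := h0.exists_vec hl (by rw [D.finrank_H]; norm_num)
  obtain ⟨W₁, h1, hle1, hf1, ho1, hg1⟩ := h0.step hl hv₀ hq₀
  rw [D.finrank_H] at hf1
  obtain ⟨v₁, hv₁, hq₁⟩ := h1.exists_vec hl (by omega)
  obtain ⟨W₂, h2, hle2, hf2, ho2, hg2⟩ := h1.step hl hv₁ hq₁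
  obtain ⟨v₂, hv₂, hq₂⟩ := h2.exists_vec hl (by omega)
  obtain ⟨W₃, h3, hle3, hf3, ho3, hg3⟩ := h2.step hl hv₂ hq₂
  have hbot : W₃ = ⊥ := by
    rw [← Submodule.finrank_eq_zero (R := F)]
    omega
  refine ⟨![v₀, v₁, v₂], ?_, ?_, ?_, ?_⟩
  · intro i
    fin_cases i
    · exact hv₀
    · exact h1.le hv₁
    · exact h2.le hv₂
  · intro i
    fin_cases i
    · exact hq₀
    · exact hq₁
    · exact hq₂
  · have key : ∀ {u w : V} {W : Submodule F V}, (∀ w ∈ W, polar Q u w = 0 ∧ polar Q (T u) w = 0) → w ∈ W →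
        T w ∈ W → u ∈ D.H → (polar Q u w = 0 ∧ polar Q u (T w) = 0) ∧ (polar Q w u = 0 ∧ polar Q w (T u) = 0) := by
      intro u w W h hw hTw _
      exact ⟨⟨(h w hw).1, (h _ hTw).1⟩, by rw [polar_comm]; exact (h w hw).1, by rw [polar_comm]; exact (h w hw).2⟩
    have k01 := key ho1 hv₁ (h1.st _ hv₁) hv₀
    have k02 := key ho1 (hle2 hv₂) (h1.st _ (hle2 hv₂)) hv₀
    have k12 := key ho2 hv₂ (h2.st _ hv₂) (h1.le hv₁)
    intro i j hij
    fin_cases i <;> fin_cases j <;> first | exact absurd rfl hij | skip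
    · exact k01.1
    · exact k02.1
    · exact k01.2
    · exact k12.1
    · exact k02.2
    · exact k12.2
  · intro w
    obtain ⟨c, hc⟩ := D.decomp w
    obtain ⟨x₀, y₀, e0⟩ := hg1 _ hc
    obtain ⟨x₁, y₁, e1⟩ := hg2 _ e0
    obtain ⟨x₂, y₂, e2⟩ := hg3 _ e1
    rw [hbot, Submodule.mem_bot] at e2
    refine ⟨c, ![x₀, x₁, x₂], ![y₀, y₁, y₂], ?_⟩
    rw [Fin.sum_univ_three]
    show w = c • l + ((x₀ • v₀ + y₀ • T v₀) + (x₁ • v₁ + y₁ • T v₁) + (x₂ • v₂ + y₂ • T v₂))
    rw [← sub_eq_zero, ← e2]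
    abel

end Tor

end Cfsg.Agent.H832.PoSeven
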